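import Groth.Agent.Lib.FrameFib8.Basic
import Mathlib.AlgebraicGeometry.Fiber
import Mathlib.AlgebraicGeometry.Morphisms.Integral
import Mathlib.Algebra.Polynomial.Inductions

/-!
A finite locally free module of constant rank on the source of an integral morphism is free over a
neighbourhood of every fibre.
-/

set_option linter.style.haveILetI false
set_option backward.isDefEq.respectTransparency false

universe u

open CategoryTheory Limits AlgebraicGeometry Opposite TopologicalSpace Polynomial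
open GrothLib.InvExt GrothLib.FinCov

namespace GrothLib.IntFree6

variable {X : Scheme.{u}}

theorem isFrame_mres {F : X.Modules} {U W : X.Opens} {n : ℕ} {e : Fin n → Γ(F, U)}
    (he : FinCov.IsFrame F U e) (h : W ≤ U) : FinCov.IsFrame F W (fun i => mres F h (e i)) := fun T hT => by
  show Function.Bijective fun c : Fin n → Γ(X, T) => ∑ i, c i • mres F hT (mres F h (e i))
  simp only [mres_mres]
  exact he T (hT.trans h)

/-- Frames on finitely many principal opens combine when weights separate the points. -/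
theorem exists_frame_nhd_of_separated {M : X.Modules} [M.IsQuasicoherent] {r : ℕ} {U : X.Opens}
    (hU : IsAffineOpen U) {ι : Type*} [Fintype ι] (f w : ι → Γ(X, U))
    (e : ∀ a, Fin r → Γ(M, X.basicOpen (f a))) (he : ∀ a, IsFrame M (X.basicOpen (f a)) (e a))
    (S : Set X)
    (hS : ∀ x ∈ S, ∃ a, x ∈ X.basicOpen (f a) ∧ x ∈ X.basicOpen (w a) ∧
      ∀ b, b ≠ a → x ∉ X.basicOpen (w b)) :
    ∃ (W : X.Opens) (s : Fin r → Γ(M, W)), S ⊆ W ∧ IsFrame M W s := by
  classical
  choose n t ht using fun (a : ι) (i : Fin r) => Cohom.exists_pow_smul_eq_map hU M (f a) (e a i)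
  let s : Fin r → Γ(M, U) := fun i => ∑ a, w a • t a i
  have key : ∀ x : S, ∃ W : X.Opens, ∃ h : W ≤ U, (x : X) ∈ W ∧
      IsFrame M W fun i => mres M h (s i) := by
    intro x
    obtain ⟨a, hxa, hwa, hwb⟩ := hS x x.2
    have hle := X.basicOpen_le (f a)
    choose c hc using fun (b : ι) (i : Fin r) => (he a _ le_rfl).2 (mres M hle (t b i))
    simp only at hc
    let C : Matrix (Fin r) (Fin r) Γ(X, X.basicOpen (f a)) :=
      fun i j => ∑ b, fres X hle (w b) * c b i j
    have hres : ∀ i, mres M hle (s i) = ∑ j, C i j • mres M le_rfl (e a j) := fun i => by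
      simp only [s, C, Finset.sum_smul, mres, map_sum]
      rw [Finset.sum_comm]
      refine Finset.sum_congr rfl fun b _ => ?_
      change mres M hle (w b • t b i) = _
      rw [mres_smul, ← hc b i, Finset.smul_sum]
      exact Finset.sum_congr rfl fun j _ => smul_smul _ _ _
    let ev := (X.evaluation (X.basicOpen (f a)) (x : X) hxa).hom
    have hev : ev C.det ≠ 0 := by
      have hca : ∀ i, c a i =
          (Pi.single i (fres X hle (f a) ^ n a i) : Fin r → Γ(X, X.basicOpen (f a))) := fun i => by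
        refine (he a _ le_rfl).1 ?_
        show (∑ j, c a i j • _) =
          ∑ j, (Pi.single i (fres X hle (f a) ^ n a i) : Fin r → Γ(X, X.basicOpen (f a))) j • _
        rw [hc a i, Finset.sum_eq_single i (fun j _ hj => by simp [hj]) (fun h => absurd (Finset.mem_univ i) h),
          Pi.single_eq_same]
        refine (ht a i).trans ?_
        exact congrArg _ (mres_self M (e a i)).symm
      have hzero : ∀ b, b ≠ a → ev (fres X hle (w b)) = 0 := fun b hb => by
        simp only [fres]
        refine (Scheme.evaluation_eq_zero_iff_notMem_basicOpen ..).mpr fun h => hwb b hb ?_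
        rw [Scheme.basicOpen_res] at h
        exact h.2
      have hnz : ∀ g : Γ(X, U), (x : X) ∈ X.basicOpen g → ev (fres X hle g) ≠ 0 := fun g hg => by
        simp only [fres]
        refine (Scheme.evaluation_ne_zero_iff_mem_basicOpen ..).mpr ?_
        rw [Scheme.basicOpen_res]
        exact ⟨hxa, hg⟩
      have hdiag : C.map ev =
          Matrix.diagonal fun i => ev (fres X hle (w a)) * ev (fres X hle (f a)) ^ n a i := by
        ext i j
        simp only [Matrix.map_apply, C, map_sum, map_mul]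
        rw [Finset.sum_eq_single a (fun b _ hb => by rw [hzero b hb, zero_mul])
          (fun h => absurd (Finset.mem_univ a) h), hca i]
        rcases eq_or_ne i j with rfl | hij
        · rw [Pi.single_eq_same, map_pow, Matrix.diagonal_apply_eq]
        · rw [Pi.single_eq_of_ne hij.symm, map_zero, mul_zero, Matrix.diagonal_apply_ne _ hij]
      have hdet : ev C.det = ∏ i, ev (fres X hle (w a)) * ev (fres X hle (f a)) ^ n a i := by
        rw [RingHom.map_det, RingHom.mapMatrix_apply, hdiag, Matrix.det_diagonal]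
      rw [hdet]
      exact Finset.prod_ne_zero_iff.mpr fun i _ => mul_ne_zero (hnz _ hwa) (pow_ne_zero _ (hnz _ hxa))
    refine ⟨X.basicOpen C.det, (X.basicOpen_le _).trans hle,
      (Scheme.evaluation_ne_zero_iff_mem_basicOpen ..).mp hev, ?_⟩
    refine FrameFib8.isFrame_of_isUnit_det (X.basicOpen_le C.det) (he a)
      (C.map (X.presheaf.map (homOfLE (X.basicOpen_le C.det)).op).hom) ?_ fun i => ?_
    · rw [← RingHom.mapMatrix_apply, ← RingHom.map_det]
      exact isUnit_res_of_le_basicOpen (X.basicOpen_le _) C.det le_rfl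
    · rw [← mres_mres M hle (X.basicOpen_le C.det) (s i), hres i]
      simp only [mres, map_sum]
      refine Finset.sum_congr rfl fun j _ => ?_
      change mres M _ (C i j • mres M le_rfl (e a j)) = _
      rw [mres_smul, mres_mres]
      rfl
  choose W hW hxW hfr using key
  refine ⟨⨆ x, W x, fun i => mres M (iSup_le hW) (s i),
    fun x hx => Opens.mem_iSup.mpr ⟨⟨x, hx⟩, hxW _⟩, Ref1.isFrame_of_stalk fun y hy => ?_⟩
  obtain ⟨a, hya⟩ := Opens.mem_iSup.mp hy
  have := Ref1.stalk_of_isFrame (hfr a) y hya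
  refine (congrArg (fun p => Function.Bijective (p : (Fin r → X.presheaf.stalk y) → _))
    (congrArg DFunLike.coe (?_ : Ref1.stalkComb _ y hya = Ref1.stalkComb _ y hy))).mp this
  unfold Ref1.stalkComb
  congr 1
  funext i
  rw [TopCat.Presheaf.germ_res_apply, TopCat.Presheaf.germ_res_apply]

variable {Y : Scheme.{u}} (π : X ⟶ Y)

/-- On the fibre of an integral morphism the zero set of a function is a principal open. -/
theorem exists_complement [IsIntegralHom π] {V : Y.Opens} (hV : IsAffineOpen V) {y : Y} (hy : y ∈ V)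
    (g : Γ(X, π ⁻¹ᵁ V)) :
    ∃ c : Γ(X, π ⁻¹ᵁ V), ∀ x, π x = y → (x ∈ X.basicOpen c ↔ x ∉ X.basicOpen g) := by
  have hmem : ∀ x, π x = y → x ∈ π ⁻¹ᵁ V := fun x hx => by show π x ∈ V; rw [hx]; exact hy
  have hev : ∀ x (hx : π x = y) (a : Γ(Y, V)),
      X.evaluation (π ⁻¹ᵁ V) x (hmem x hx) (π.app V a) = 0 ↔ y ∉ Y.basicOpen a := fun x hx a => by
    rw [Scheme.evaluation_eq_zero_iff_notMem_basicOpen, ← Scheme.preimage_basicOpen]
    show π x ∉ Y.basicOpen a ↔ _
    rw [hx]
  suffices H : ∀ Q : Polynomial Γ(Y, V), (∃ k, y ∈ Y.basicOpen (Q.coeff k)) →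
      (∀ x (hx : π x = y), X.evaluation (π ⁻¹ᵁ V) x (hmem x hx) g = 0 ∨
        X.evaluation (π ⁻¹ᵁ V) x (hmem x hx) (Q.eval₂ (π.app V).hom g) = 0) →
      ∃ c : Γ(X, π ⁻¹ᵁ V), ∀ x, π x = y → (x ∈ X.basicOpen c ↔ x ∉ X.basicOpen g) by
    obtain ⟨P, hP, hPg⟩ := π.isIntegral_app V hV g
    refine H P ⟨P.natDegree, ?_⟩ fun x hx => .inr ?_
    · rw [hP.coeff_natDegree, Scheme.basicOpen_of_isUnit _ isUnit_one]; exact hy
    · rw [hPg, map_zero]
  intro Q
  induction Q using Polynomial.recOnHorner with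
  | M0 => rintro ⟨k, hk⟩; simp at hk
  | MC p a hp ha ih =>
    intro hk hQ
    by_cases hya : y ∈ Y.basicOpen a
    · refine ⟨(p + Polynomial.C a).eval₂ (π.app V).hom g, fun x hx => ?_⟩
      rw [← Scheme.evaluation_ne_zero_iff_mem_basicOpen (hx := hmem x hx),
        ← Scheme.evaluation_eq_zero_iff_notMem_basicOpen (hx := hmem x hx)]
      refine ⟨fun h => (hQ x hx).resolve_right h, fun hg => ?_⟩
      have h0 : p.eval₂ (π.app V).hom g = g * (p.divX).eval₂ (π.app V).hom g := by
        conv_lhs => rw [← Polynomial.X_mul_divX_add p, hp, map_zero, add_zero]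
        rw [Polynomial.eval₂_mul, Polynomial.eval₂_X]
      rw [Polynomial.eval₂_add, Polynomial.eval₂_C, h0, map_add, map_mul, hg, zero_mul, zero_add]
      exact fun h => (hev x hx a).1 h hya
    · refine ih ?_ fun x hx => ?_
      · obtain ⟨k, hk⟩ := hk
        refine ⟨k, ?_⟩
        rcases k with - | k
        · rw [Polynomial.coeff_add, hp, zero_add, Polynomial.coeff_C_zero] at hk
          exact absurd hk hya
        · rwa [Polynomial.coeff_add, Polynomial.coeff_C_ne_zero k.succ_ne_zero, add_zero] at hk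
      · refine (hQ x hx).imp_right fun h => ?_
        rw [Polynomial.eval₂_add, Polynomial.eval₂_C, map_add, (hev x hx a).2 hya, add_zero] at h
        exact h
  | MX p hp ih =>
    rintro ⟨k, hk⟩ hQ
    refine ih ?_ fun x hx => ?_
    · rcases k with - | k
      · simp at hk
      · exact ⟨k, by rwa [Polynomial.coeff_mul_X] at hk⟩
    · rcases hQ x hx with h | h
      · exact .inl h
      · rw [Polynomial.eval₂_mul, Polynomial.eval₂_X, map_mul, mul_eq_zero] at h
        exact h.symm

/-- Finitely many principal opens covering a fibre can be made disjoint on it. -/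
theorem exists_weights [IsIntegralHom π] {V : Y.Opens} (hV : IsAffineOpen V) {y : Y} (hy : y ∈ V)
    {m : ℕ} (g : Fin m → Γ(X, π ⁻¹ᵁ V)) (hg : ∀ x, π x = y → ∃ a, x ∈ X.basicOpen (g a)) :
    ∃ w : Fin m → Γ(X, π ⁻¹ᵁ V), ∀ x, π x = y → ∃ a, x ∈ X.basicOpen (g a) ∧ x ∈ X.basicOpen (w a) ∧
      ∀ b, b ≠ a → x ∉ X.basicOpen (w b) := by
  classical
  choose c hc using fun a => exists_complement π hV hy (g a)
  refine ⟨fun a => g a * ∏ b ∈ Finset.univ.filter (· < a), c b, fun x hx => ?_⟩
  have hmem : x ∈ π ⁻¹ᵁ V := by show π x ∈ V; rw [hx]; exact hy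
  let ev := (X.evaluation (π ⁻¹ᵁ V) x hmem).hom
  have hiff : ∀ s, x ∈ X.basicOpen s ↔ ev s ≠ 0 := fun s =>
    (Scheme.evaluation_ne_zero_iff_mem_basicOpen ..).symm
  simp only [hiff, map_mul, map_prod, mul_ne_zero_iff, Finset.prod_ne_zero_iff, Finset.mem_filter,
    Finset.mem_univ, true_and]
  obtain ⟨a, ha, hmin⟩ := Finset.exists_min_image (Finset.univ.filter fun a => x ∈ X.basicOpen (g a)) id
    ((hg x hx).imp fun a ha => by simpa using ha)
  simp only [Finset.mem_filter, Finset.mem_univ, true_and, id] at ha hmin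
  refine ⟨a, (hiff _).1 ha, ⟨(hiff _).1 ha, fun b hb => (hiff _).1 ((hc b x hx).2 fun h =>
    absurd (hmin b h) (not_le.2 hb))⟩, fun b hb h => ?_⟩
  rcases lt_or_gt_of_ne hb with hlt | hgt
  · exact absurd (hmin b ((hiff _).2 h.1)) (not_le.2 hlt)
  · exact (hc a x hx).1 ((hiff _).2 (h.2 a hgt)) ha

/-- A module free of rank `r` near each point of the source of an integral morphism is free over the
inverse image of an open neighbourhood of any point of the target. -/
theorem exists_free_over_nhd [IsIntegralHom π] {M : X.Modules} {r : ℕ}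
    (hM : FlatMod.IsFinLocFreeOfRank r M) (y : Y) :
    ∃ V : Y.Opens, y ∈ V ∧ Nonempty (M.restrict (π ⁻¹ᵁ V).ι ≅ FlatMod.freeMod (↑(π ⁻¹ᵁ V)) r) := by
  classical
  haveI := Euler.isQuasicoherent_of_isFinLocFree (FinCov.isFinLocFree_of_rank hM)
  obtain ⟨U, hU, hyU, -⟩ := exists_isAffineOpen_mem_and_subset (U := (⊤ : Y.Opens)) (x := y) trivial
  have hloc : ∀ x : π ⁻¹' {y}, ∃ (g : Γ(X, π ⁻¹ᵁ U)) (e : Fin r → Γ(M, X.basicOpen g)),
      (x : X) ∈ X.basicOpen g ∧ IsFrame M (X.basicOpen g) e := fun x => by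
    obtain ⟨V, e, hxV, he⟩ := FinCov.exists_frame_nhd_of_rank hM (x : X)
    have hxU : (x : X) ∈ π ⁻¹ᵁ U := by show π (x : X) ∈ U; rw [show π (x : X) = y from x.2]; exact hyU
    obtain ⟨g, hgV, hxg⟩ := (hU.preimage π).exists_basicOpen_le ⟨(x : X), hxV⟩ hxU
    exact ⟨g, fun i => mres M hgV (e i), hxg, isFrame_mres he hgV⟩
  choose g e hmem he using hloc
  obtain ⟨t, ht⟩ := (π.isCompact_preimage_singleton y).elim_finite_subcover
    (fun x => (X.basicOpen (g x) : Set X)) (fun x => (X.basicOpen (g x)).isOpen)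
    fun x hx => Set.mem_iUnion.2 ⟨⟨x, hx⟩, hmem _⟩
  let z : Fin t.card → π ⁻¹' {y} := fun a => (t.equivFin.symm a).1
  obtain ⟨w, hw⟩ := exists_weights π hU hyU (fun a => g (z a)) fun x hx => by
    obtain ⟨i, hi, hxi⟩ := Set.mem_iUnion₂.1 (ht hx)
    exact ⟨t.equivFin ⟨i, hi⟩, by simpa only [z, Equiv.symm_apply_apply, SetLike.mem_coe] using hxi⟩
  obtain ⟨W, s, hSW, hs⟩ := exists_frame_nhd_of_separated (hU.preimage π) (fun a => g (z a)) w
    (fun a => e (z a)) (fun a => he (z a)) (π ⁻¹' {y}) hw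
  let V : Y.Opens := ⟨(π '' (W : Set X)ᶜ)ᶜ, (π.isClosedMap _ W.2.isClosed_compl).isOpen_compl⟩
  have hVW : π ⁻¹ᵁ V ≤ W := fun x hx => by
    by_contra h
    exact hx ⟨x, h, rfl⟩
  refine ⟨V, ?_, exists_iso_of_frame (isFrame_mres hs hVW)⟩
  rintro ⟨x, hx, hxy⟩
  exact hx (hSW hxy)

end GrothLib.IntFree6
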